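import Cfsg.Agent.Spor.He2058.S.D0

set_option autoImplicit false
set_option maxRecDepth 100000000
set_option Elab.async false

namespace Cfsg.Agent.Spor.He2058.S

theorem gr4 : sub M3 (U.growI W2 [3, 4, 5, 6, 6, 4, 2, 1, 2, 3, 4, 6, 2, 1] (Nat.shiftLeft 1 46)) = true := by decide +kernel

theorem sd6 : U.sends [3, 5, 7, 5, 7, 13] 0 46 = true := by decide +kernel

theorem gr7 : sub (ones 2058) (U.growI ([3, 5, 7, 5, 7, 13] :: W2) [0, 4, 5, 6, 7, 7, 5, 3, 2, 0, 0, 1, 2, 3, 4, 5, 6, 7, 7, 5, 3, 2, 0] (Nat.shiftLeft 1 0)) = true := by decide +kernel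

theorem cl9 : band (U.closedW W2 M3) (sub (Nat.shiftLeft 1 46) M3) = true := by decide +kernel

theorem sz10 : sizeOk 12 M3 136 = true := by decide +kernel

theorem gr13 : sub M12 (U.growI W2 [0, 1, 2, 3, 4, 5, 6, 6, 4, 2, 1, 2, 4] (Nat.shiftLeft 1 65)) = true := by decide +kernel

theorem sd15 : U.sends [13, 7, 5, 3, 7, 13] 0 65 = true := by decide +kernel

theorem gr16 : sub (ones 2058) (U.growI ([13, 7, 5, 3, 7, 13] :: W2) [0, 1, 2, 3, 4, 5, 6, 7, 7, 5, 3, 2, 0, 0, 1, 2, 3, 4, 5, 6, 7, 7, 5, 3, 2, 0] (Nat.shiftLeft 1 0)) = true := by decide +kernel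

theorem cl18 : band (U.closedW W2 M12) (sub (Nat.shiftLeft 1 65) M12) = true := by decide +kernel

theorem sz19 : sizeOk 12 M12 136 = true := by decide +kernel

theorem gr22 : sub M21 (U.growI W2 [2, 3, 4, 6, 6, 4, 2, 1, 2, 3, 4, 5, 6, 2, 1, 2, 3, 4] (Nat.shiftLeft 1 2)) = true := by decide +kernel

theorem sd24 : U.sends [13] 0 2 = true := by decide +kernel

theorem gr25 : sub (ones 2058) (U.growI ([13] :: W2) [0, 3, 4, 5, 7, 7, 5, 3, 2, 0, 3, 4, 5, 6, 7, 7, 5, 3, 2, 0, 3, 4, 5, 7, 7, 3, 2] (Nat.shiftLeft 1 0)) = true := by decide +kernel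

theorem cl27 : band (U.closedW W2 M21) (sub (Nat.shiftLeft 1 2) M21) = true := by decide +kernel

theorem sz28 : sizeOk 12 M21 425 = true := by decide +kernel

theorem gr31 : sub M30 (U.growI W2 [1, 2, 3, 4, 6, 6, 2, 1, 2, 3, 4, 6, 6, 2, 1, 2, 3, 4, 5, 6, 6, 2, 1, 2, 3, 4, 5] (Nat.shiftLeft 1 1)) = true := by decide +kernel

theorem sd33 : U.sends [3] 0 1 = true := by decide +kernel

theorem gr34 : sub (ones 2058) (U.growI ([3] :: W2) [0, 2, 3, 4, 5, 7, 7, 3, 2, 0, 3, 4, 5, 7, 7, 3, 2, 0, 1, 3, 4, 5, 6, 7, 7, 3, 2, 0, 1, 3, 4, 5, 7, 7] (Nat.shiftLeft 1 0)) = true := by decide +kernel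

theorem cl36 : band (U.closedW W2 M30) (sub (Nat.shiftLeft 1 1) M30) = true := by decide +kernel

theorem sz37 : sizeOk 12 M30 1360 = true := by decide +kernel

theorem ff39 : U.fixFrom 12 2058 1 = true := by decide +kernel

theorem ff40 : U.fixFrom 12 2058 3 = true := by decide +kernel

theorem ff41 : U.fixFrom 12 2058 5 = true := by decide +kernel

theorem ff42 : U.fixFrom 12 2058 7 = true := by decide +kernel

theorem ff43 : U.fixFrom 12 2058 9 = true := by decide +kernel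

theorem ff44 : U.fixFrom 12 2058 11 = true := by decide +kernel

theorem ff45 : U.fixFrom 12 2058 13 = true := by decide +kernel

end Cfsg.Agent.Spor.He2058.S
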