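import Cfsg.Agent.Spor.Chk2
import Cfsg.Agent.Spor.He2058.D0

set_option autoImplicit false
set_option maxRecDepth 100000000
set_option Elab.async false
noncomputable section

namespace Cfsg.Agent.Spor.He2058.S

def W1 : List (List Nat) := [[1], [3], [5], [7], [9], [11], [13]]

def W2 : List (List Nat) := [[1], [5], [7], [9], [11], [15], [19]]

def M3 : Nat := nat_lit 0x100000000002102000104000000010000400100000000080000000000000700008000388e0030170e1000000000400000000000000001000002000000000000441000c00001000110000000000200000000001700a020e00360070008010000000000000080000000000000840040004000000200000042000000e9100000000000000000000000001c102000400072008000000000000001c000000000040000008000000000000000000800000000000000000000800000004000001300000008038000000002000000000000000000200000000008100001080000000000008c000000400e20000000001e8000007280000000b8001680000100400000000000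

def M12 : Nat := nat_lit 0x200000000000000000000000000000000000020001000c000000000000000000010000004000000002000000000000000000000000000000000008200000600a130001f00000058000000000000000000000000000038000000c0000000780000000000000000002000000001800000182000003802a2d01e00000001f8000000000000000000000000001200002100001c0000000000000002000000b800000200000030b1a0f0000000f00000000000000000040f0000102001000000000003000000063770003c0800000000408400000000006000bc1000000000000000000060e400000000000000cc000000000020000000000000000

def M21 : Nat := nat_lit 0x400220400000000218320000240006000c2c11190010001d0c000800000021100600400002000040c800002e00b256c002000e535e00003800a3d05821df81610000005018000404c00000000002002d8000f0000800000400000018007c0088037d073370020011fbff000b858c1d101ffc0e84000000001800400000028000800000000003e003000000000000180018001fc27007e22e2200107ff807160e5003f0e00200000003408000050000000000003860000000006010200fb0d8017468007e1dc907400000100000000000590000b843040f70660eca280000000037407408000f345958000007421000395df00000800017fc00000ff000f80e24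

def M30 : Nat := nat_lit 0x2ffbffddfbfdefdffdce3cdffffdafff9bff2d3eee6ffe7ffe2f3fdf7fef8f3de6ff9c731ffcde8f1ae37ffff91bf4da93dfdfff1aca0ffffc5ff5c2fa7de203a8eff37dfaee79ee1e83ffe0ffdfff87fd27fe80f5fd71ffc9bf8fff7e6fc03ff77f082f84c887dffee04007bf43a73a0efe001f163ffbdfe7de716ac7fd5d07e1f7fffffe07ffc1fe0efdfffbfff8de77fe7fec03d8de81c101dffef8003f8e9f10ffc0f147dffffdffcb77cf4e0f0fffffff0ffc71fffffffbf9fef8c004f26f48807ff81e234f88fffffef9c88fffc1f26ffff47b0e3b08e91f135d1fff43e73c8bf8bb7f1d0cba6a1f1a178bdef8d46a2033f477fe96801feffb00fff07f1da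

def U : Tab := ⟨[n0, n1, n2, n3, n4, n5, n6, n7, n8, n9], [⟨0, false, 0, 0, []⟩, ⟨0, false, 0, 0, []⟩, ⟨0, true, 0, 0, []⟩, ⟨1, false, 0, 0, []⟩, ⟨1, true, 0, 0, []⟩, ⟨2, false, 0, 0, []⟩, ⟨2, true, 0, 0, []⟩, ⟨3, false, 0, 0, []⟩, ⟨3, true, 0, 0, []⟩, ⟨4, false, 0, 0, []⟩, ⟨4, true, 0, 0, []⟩, ⟨5, false, 0, 0, []⟩, ⟨5, true, 0, 0, []⟩, ⟨6, false, 0, 0, []⟩, ⟨6, true, 0, 0, []⟩, ⟨7, false, 0, 0, []⟩, ⟨7, true, 0, 0, []⟩, ⟨8, false, 0, 0, []⟩, ⟨8, true, 0, 0, []⟩, ⟨9, false, 0, 0, []⟩, ⟨9, true, 0, 0, []⟩]⟩

end Cfsg.Agent.Spor.He2058.S
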